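import Cfsg.Agent.H816.M23.Inst
import Cfsg.Agent.H816.M23.Chr
import Cfsg.Agent.H741.M23.Cent

/-!
# The square of the class sum `2A` of the Monster (helper816)

`sq` : `|2A| b ^ 2 ≤ d (d + 27143910000 |b| + 8 * 10 ^ 28)` for an irreducible character of degree `d` with the
value `b` on `2A`.
-/

set_option autoImplicit false
set_option maxRecDepth 100000

namespace Cfsg.Agent.H816.M23.Main

open Cfsg Cfsg.Agent.MonsterX.InstData
open Cfsg.Agent.H816.MSch Cfsg.Agent.H816.IMEig
open Cfsg.Agent.H816.M23.Tx Cfsg.Agent.H816.M23.Inst Cfsg.Agent.H816.M23.Abs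

section abs

universe u v

variable {G : Type u} [Group G] {Ω : Type v} [MulAction G Ω] {c : Ω → Ω → Fin 9} {T : Ω → G}

theorem odd_zero {x y : Ω} {m n : ℕ} (e : (T x * T y) ^ m = 1) (e' : (T x * T y) ^ n = 1)
    (hg : Nat.gcd m n = 1) (hne : T x * T y ≠ 1) : False := hne (pow_one' e e' hg)

theorem cube_col (h : AX G Ω c T) {x y : Ω} (e : (T x * T y) ^ 3 = 1) (hne : T x * T y ≠ 1) : c x y = 3 ∨ c x y = 4 := by
  rcases nine (c x y) with h4 | h4 | h4 | h4 | h4 | h4 | h4 | h4 | h4
  · exact absurd (h.zero_one h4) hne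
  · exact (odd_zero e (h.one_sq h4) rfl hne).elim
  · exact (odd_zero e (h.two_sq h4) rfl hne).elim
  · exact Or.inl h4
  · exact Or.inr h4
  · exact (odd_zero e (h.five_four h4) rfl hne).elim
  · exact (odd_zero e (h.six_four h4) rfl hne).elim
  · exact (odd_zero e (h.seven _ _ h4) rfl hne).elim
  · exact absurd e (h.eight_three h4)

theorem five_col (h : AX G Ω c T) {x y : Ω} (e : (T x * T y) ^ 5 = 1) (hne : T x * T y ≠ 1) : c x y = 7 := by
  rcases nine (c x y) with h4 | h4 | h4 | h4 | h4 | h4 | h4 | h4 | h4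
  · exact absurd (h.zero_one h4) hne
  · exact (odd_zero e (h.one_sq h4) rfl hne).elim
  · exact (odd_zero e (h.two_sq h4) rfl hne).elim
  · exact (odd_zero e (h.three _ _ h4) rfl hne).elim
  · exact (odd_zero e (h.four _ _ h4) rfl hne).elim
  · exact (odd_zero e (h.five_four h4) rfl hne).elim
  · exact (odd_zero e (h.six_four h4) rfl hne).elim
  · exact h4
  · exact (odd_zero e (h.eight_six h4) rfl hne).elim

theorem two_col (h : AX G Ω c T) {x y : Ω} (e : (T x * T y) ^ 2 = 1) (hne : T x * T y ≠ 1) (hw : ∀ w, T x * T y ≠ T w) :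
    c x y = 2 := by
  rcases h.le_two e with h4 | h4 | h4
  · exact absurd (h.zero_one h4) hne
  · obtain ⟨w, h5⟩ := h.one _ _ h4
    exact absurd h5 (hw w)
  · exact h4

end abs

/-! ### The bounds -/

noncomputable instance : Fintype XT := Fintype.ofFinite XT

theorem kk (x : XT) (u : Fin 9) : Col.kk c x u = k u := (isCol.kk_eq x b0 u).trans (kk_eq u)

/-- The orbit lemma with the numbers. -/
theorem bound {x y : XT} {i : Fin 9} (hi : c x y = i) (hs : ∀ s s', tX s * tX s' = tX x * tX y → c s s' = i)
    {C B : ℕ} (hC : Nat.card (Subgroup.centralizer ({tX x * tX y} : Set ↥M.G)) = C)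
    (hB : C * (97239461142009186000 * k i) ≤ B * 808017424794512875886459904961710757005754368000000000) :
    N tX x y ≤ B := by
  have h1 := ax.orbit (x := x) (y := y) (fun s s' e => (hs s s' e).trans hi.symm)
  rw [hC, card_G, card_XT, kk, hi] at h1
  exact Nat.le_of_mul_le_mul_right (h1.trans hB) (by norm_num)

theorem ord_eq {x y : XT} (h : c x y ≠ 0) {p : ℕ} (hp : p.Prime) (e : (tX x * tX y) ^ p = 1) : orderOf (tX x * tX y) = p := by
  have := Fact.mk hp
  exact orderOf_eq_prime e (ne_one h)

theorem cent_three {x y : XT} (h : c x y = 3) :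
    Nat.card (Subgroup.centralizer ({tX x * tX y} : Set ↥M.G)) = 3 * 1255205709190661721292800 := by
  obtain ⟨u, hu, hc⟩ := exists_of h (p := 17) (by norm_num) (by
    intro n hn
    have h4 : n * (97239461142009186000 * 2031941058560000) = 808017424794512875886459904961710757005754368000000000 := hn
    omega)
  exact H741.M23.Cent.cent3_17 (ord_eq (by rw [h]; decide) Nat.prime_three (ax.three x y h)) hu hc

theorem cent_four {x y : XT} (h : c x y = 4) :
    Nat.card (Subgroup.centralizer ({tX x * tX y} : Set ↥M.G)) = 272237831663616000 := by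
  obtain ⟨u, hu, hc⟩ := exists_of h (p := 19) (by norm_num) (by
    intro n hn
    have h4 : n * (97239461142009186000 * 91569524834304000) = 808017424794512875886459904961710757005754368000000000 := hn
    omega)
  exact H741.M23.Cent.cent3_19 (ord_eq (by rw [h]; decide) Nat.prime_three (ax.four x y h)) hu hc

theorem cent_seven {x y : XT} (h : c x y = 7) :
    Nat.card (Subgroup.centralizer ({tX x * tX y} : Set ↥M.G)) = 5 * 273030912000000 := by
  obtain ⟨u, hu, hc⟩ := exists_of h (p := 19) (by norm_num) (by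
    intro n hn
    have h4 : n * (97239461142009186000 * 30434513446055706624) = 808017424794512875886459904961710757005754368000000000 := hn
    omega)
  exact H741.M23.Cent.cent5_19 (ord_eq (by rw [h]; decide) Nat.prime_five (ax.seven x y h)) hu hc

theorem N_three {x y : XT} (h : c x y = 3) : N tX x y ≤ 920808 := by
  refine bound h (fun s s' e => ?_) (cent_three h) (by
    show 3 * 1255205709190661721292800 * (97239461142009186000 * 2031941058560000) ≤
      920808 * 808017424794512875886459904961710757005754368000000000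
    norm_num)
  rcases cube_col ax (x := s) (y := s') (by rw [e]; exact ax.three x y h) (by rw [e]; exact ne_one (by rw [h]; decide))
    with h1 | h1
  · exact h1
  · exfalso
    have h2 := cent_four h1
    rw [e, cent_three h] at h2
    norm_num at h2

theorem N_four {x y : XT} (h : c x y = 4) : N tX x y ≤ 3 := by
  refine bound h (fun s s' e => ?_) (cent_four h) (by
    show 272237831663616000 * (97239461142009186000 * 91569524834304000) ≤
      3 * 808017424794512875886459904961710757005754368000000000
    norm_num)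
  rcases cube_col ax (x := s) (y := s') (by rw [e]; exact ax.four x y h) (by rw [e]; exact ne_one (by rw [h]; decide))
    with h1 | h1
  · exfalso
    have h2 := cent_three h1
    rw [e, cent_four h] at h2
    norm_num at h2
  · exact h1

theorem N_seven {x y : XT} (h : c x y = 7) : N tX x y ≤ 5 := by
  refine bound h (fun s s' e => ?_) (cent_seven h) (by
    show 5 * 273030912000000 * (97239461142009186000 * 30434513446055706624) ≤
      5 * 808017424794512875886459904961710757005754368000000000
    norm_num)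
  exact five_col ax (by rw [e]; exact ax.seven x y h) (by rw [e]; exact ne_one (by rw [h]; decide))

theorem N_two {x y : XT} (h : c x y = 2) : N tX x y ≤ 196560 := by
  obtain ⟨g, rfl, rfl⟩ := c_tr b0 b1 x y (c_b1.trans h.symm)
  rw [ax.N_smul]
  refine bound c_b1 (fun s s' e => ?_) (C := 2 ^ 25 * 4157776806543360000) (by rw [b0_b1]; exact card_cz) (by
    show 2 ^ 25 * 4157776806543360000 * (97239461142009186000 * 11707448673375) ≤
      196560 * 808017424794512875886459904961710757005754368000000000
    norm_num)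
  obtain ⟨h1, h2⟩ := two c_b1
  exact two_col ax (by rw [e]; exact h1) (by rw [e, b0_b1]; exact zG_ne) (by rw [e]; exact h2)

theorem total (x : XT) : A c tX x 2 + A c tX x 3 + A c tX x 4 + A c tX x 5 + A c tX x 6 + A c tX x 7 + A c tX x 8 ≤
    770000000000000000000000 := by
  have h1 := ax.total x (fun y => N_two) (fun y => N_three) (fun y => N_four) (fun y => N_seven)
  simp only [kk] at h1
  refine h1.trans ?_
  decide +kernel

/-- **The square of the class sum `2A`**, for real values. -/
theorem sq_real {χ : ↥M.G → ℂ} (hχ : IsIrrCharacter ↥M.G χ) {d b : ℝ} (hd : χ 1 = d) (hb : χ (tX b0) = b)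
    (hpos : 0 < d) : 97239461142009186000 * b ^ 2 ≤ d * (d + 27143910000 * |b| + 8 * 10 ^ 28) := by
  have h1 := ax.char_sq hχ b0
  rw [hd, hb, card_XT, card_G, kk] at h1
  have hk : k 1 = 27143910000 := rfl
  rw [hk] at h1
  set r : ℝ := 97239461142009186000 * (b ^ 2 / d) - d - 27143910000 * b with hr
  have e : ((97239461142009186000 : ℕ) : ℂ) * ((b : ℂ) ^ 2 / (d : ℂ)) - (d : ℂ) - ((27143910000 : ℕ) : ℂ) * (b : ℂ) = (r : ℂ) := by
    rw [hr]
    push_cast
    ring
  rw [e, Complex.norm_real, Real.norm_eq_abs, sq_abs] at h1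
  have h2 : ((A c tX b0 2 + A c tX b0 3 + A c tX b0 4 + A c tX b0 5 + A c tX b0 6 + A c tX b0 7 + A c tX b0 8 : ℕ) : ℝ) ≤
      770000000000000000000000 := by exact_mod_cast total b0
  have h3 : r ^ 2 ≤ (8 * 10 ^ 28) ^ 2 := by
    have h4 : ((808017424794512875886459904961710757005754368000000000 : ℕ) : ℝ) =
        97239461142009186000 * 8309562962452852382355161088000000 := by norm_num
    rw [h4] at h1
    have h5 : r ^ 2 * ((97239461142009186000 : ℕ) : ℝ) ≤
        97239461142009186000 * 8309562962452852382355161088000000 * 770000000000000000000000 :=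
      h1.trans (mul_le_mul_of_nonneg_left h2 (by norm_num))
    push_cast at h5
    nlinarith
  have h4 : |r| ≤ 8 * 10 ^ 28 := abs_le_of_sq_le_sq h3 (by norm_num)
  have h5 : r ≤ 8 * 10 ^ 28 := (le_abs_self r).trans h4
  have h6 : 97239461142009186000 * (b ^ 2 / d) ≤ d + 27143910000 * |b| + 8 * 10 ^ 28 := by
    have := le_abs_self b
    rw [hr] at h5
    linarith
  calc 97239461142009186000 * b ^ 2 = d * (97239461142009186000 * (b ^ 2 / d)) := by field_simp
    _ ≤ _ := mul_le_mul_of_nonneg_left h6 hpos.le

/-- **The square of the class sum `2A`**: `t` of class `2A`. -/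
theorem sq {χ : ↥M.G → ℂ} (hχ : IsIrrCharacter ↥M.G χ) {t : ↥M.G} (ht : LThreeB.Row.TA t) {d b : ℤ} (hd : χ 1 = d)
    (hb : χ t = b) : 97239461142009186000 * b ^ 2 ≤ d * (d + 27143910000 * |b| + 8 * 10 ^ 28) := by
  obtain ⟨w, rfl⟩ := (ta_iff t).1 ht
  obtain ⟨g, rfl⟩ := c_trans b0 w
  rw [tX_smul, Characters.Core.isIrr_isClassFunction hχ] at hb
  have hpos : (0 : ℝ) < (d : ℝ) := by
    have h1 : ∃ n : ℕ, 0 < n ∧ χ 1 = n := by
      obtain ⟨n, ρ, hρ, rfl⟩ := hχ
      refine ⟨Module.finrank ℂ (Fin n → ℂ), Characters.Central.finrank_pos_of_irr ρ hρ, ?_⟩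
      exact Representation.char_one ρ
    obtain ⟨n, hn, h2⟩ := h1
    rw [hd] at h2
    have h3 : d = (n : ℤ) := by exact_mod_cast h2
    rw [h3]
    exact_mod_cast hn
  have h1 := sq_real hχ (d := d) (b := b) (by rw [hd]; push_cast; rfl) (by rw [hb]; push_cast; rfl) hpos
  have h2 : ((97239461142009186000 * b ^ 2 : ℤ) : ℝ) ≤ ((d * (d + 27143910000 * |b| + 8 * 10 ^ 28) : ℤ) : ℝ) := by
    push_cast
    refine h1.trans (le_of_eq ?_)
    norm_num
  exact_mod_cast h2

end Cfsg.Agent.H816.M23.Main
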