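import Cfsg.Agent.H816.IMEig

/-!
# Counting pairs of `2A`-involutions with a given product: abstract part (helper816)

`AX` : the facts about the nine orbits on pairs; `N x y` : the number of `s` such that `T s * T s' = T x * T y` for
some `s'`; `total` : the bound for the sum of `N x y` over all `y` of colour at least `2`.
-/

set_option autoImplicit false
set_option linter.unusedSectionVars false

namespace Cfsg.Agent.H816.M23.Abs

open Cfsg Cfsg.Agent.H816.IMEig

universe u v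

/-- The facts about the nine colours `0, …, 8` = `1A 2A 2B 3A 3C 4A 4B 5A 6A`. -/
structure AX (G : Type u) [Group G] (Ω : Type v) [MulAction G Ω] (c : Ω → Ω → Fin 9) (T : Ω → G) : Prop where
  col : Col G Ω (Fin 9) c 0
  smul : ∀ (g : G) (x : Ω), T (g • x) = g * T x * g⁻¹
  inj : ∀ x y : Ω, T x = T y → x = y
  sq : ∀ x : Ω, T x * T x = 1
  ne : ∀ x : Ω, T x ≠ 1
  one : ∀ x y : Ω, c x y = 1 → ∃ w, T x * T y = T w
  two : ∀ x y : Ω, c x y = 2 → (T x * T y) ^ 2 = 1 ∧ ∀ w, T x * T y ≠ T w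
  three : ∀ x y : Ω, c x y = 3 → (T x * T y) ^ 3 = 1
  four : ∀ x y : Ω, c x y = 4 → (T x * T y) ^ 3 = 1
  five : ∀ x y : Ω, c x y = 5 → c x (T y • x) = 2
  six : ∀ x y : Ω, c x y = 6 → c x (T y • x) = 1
  seven : ∀ x y : Ω, c x y = 7 → (T x * T y) ^ 5 = 1
  eight : ∀ x y : Ω, c x y = 8 → c x ((T y * T x) • y) = 1
  uniq : ∀ x y v w : Ω, c x y = 6 ∨ c x y = 8 → c x v = 1 → c v y = 1 → c x w = 1 → c w y = 1 → v = w

theorem nine (i : Fin 9) : i = 0 ∨ i = 1 ∨ i = 2 ∨ i = 3 ∨ i = 4 ∨ i = 5 ∨ i = 6 ∨ i = 7 ∨ i = 8 := by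
  revert i; decide

section pow

variable {G : Type u} [Group G]

theorem pow_gcd {g : G} {m n : ℕ} (h1 : g ^ m = 1) (h2 : g ^ n = 1) : g ^ Nat.gcd m n = 1 := by
  rw [← orderOf_dvd_iff_pow_eq_one] at h1 h2 ⊢
  exact Nat.dvd_gcd h1 h2

theorem pow_one' {g : G} {m n : ℕ} (h1 : g ^ m = 1) (h2 : g ^ n = 1) (h : Nat.gcd m n = 1) : g = 1 := by
  have := pow_gcd h1 h2
  rwa [h, pow_one] at this

end pow

variable {G : Type u} [Group G] {Ω : Type v} [MulAction G Ω] {c : Ω → Ω → Fin 9} {T : Ω → G}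

/-- `s` is the first member of a pair of product `g`. -/
def R (T : Ω → G) (g : G) (s : Ω) : Prop := ∃ s', T s * T s' = g

namespace AX

variable (h : AX G Ω c T)
include h

theorem inv (x : Ω) : (T x)⁻¹ = T x := inv_eq_of_mul_eq_one_left (h.sq x)

theorem mul_cancel (x : Ω) (g : G) : T x * (T x * g) = g := by rw [← mul_assoc, h.sq, one_mul]

theorem fix_iff (g : G) (x : Ω) : g • x = x ↔ g * T x = T x * g := by
  constructor
  · intro e
    have h1 := h.smul g x
    rw [e, eq_mul_inv_iff_mul_eq] at h1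
    exact h1.symm
  · intro e
    apply h.inj
    rw [h.smul, e, mul_inv_cancel_right]

theorem eq_of_one {x y : Ω} (e : T x * T y = 1) : x = y := by
  apply h.inj
  rw [← h.inv x]
  exact (inv_eq_of_mul_eq_one_right e)

theorem sq_eq (x y : Ω) : (T x * T y) ^ 2 = T x * T (T y • x) := by
  rw [h.smul, h.inv, pow_two]
  group

theorem cube_eq (x y : Ω) : (T x * T y) ^ 3 = T x * T ((T y * T x) • y) := by
  rw [h.smul, mul_inv_rev, h.inv, h.inv]
  have e : T y * T x * T y * (T x * T y) = T y * (T x * T y * (T x * T y)) := by group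
  rw [e, pow_succ, pow_two]
  group

theorem comm_of {x y : Ω} (e : (T x * T y) ^ 2 = 1) : T x * T y = T y * T x := by
  rw [pow_two] at e
  have h1 := inv_eq_of_mul_eq_one_left e
  rw [mul_inv_rev, h.inv, h.inv] at h1
  exact h1.symm

theorem le_two {x y : Ω} (e : (T x * T y) ^ 2 = 1) : c x y = 0 ∨ c x y = 1 ∨ c x y = 2 := by
  have hc := h.comm_of e
  have hx : T y • x = x := (h.fix_iff _ _).2 hc.symm
  have hy : T x • y = y := (h.fix_iff _ _).2 hc
  have hd : c x x = 0 := h.col.self x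
  have hodd : ∀ n, (T x * T y) ^ n = 1 → Nat.gcd 2 n = 1 → c x y = 0 := by
    intro n hn hg
    have := h.eq_of_one (pow_one' e hn hg)
    rw [this]
    exact h.col.self y
  rcases nine (c x y) with h1 | h1 | h1 | h1 | h1 | h1 | h1 | h1 | h1
  · exact Or.inl h1
  · exact Or.inr (Or.inl h1)
  · exact Or.inr (Or.inr h1)
  · exact Or.inl (hodd 3 (h.three x y h1) rfl)
  · exact Or.inl (hodd 3 (h.four x y h1) rfl)
  · exfalso
    have := h.five x y h1
    rw [hx, hd] at this
    exact absurd this (by decide)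
  · exfalso
    have := h.six x y h1
    rw [hx, hd] at this
    exact absurd this (by decide)
  · exact Or.inl (hodd 5 (h.seven x y h1) rfl)
  · exfalso
    have h2 := h.eight x y h1
    have hyy : T y • y = y := (h.fix_iff _ _).2 rfl
    rw [mul_smul, hy, hyy, h1] at h2
    exact absurd h2 (by decide)

/-- A product of two which is a third: colour `2A`. -/
theorem col_one {x y w : Ω} (e : T x * T y = T w) : c x y = 1 := by
  have h2 : (T x * T y) ^ 2 = 1 := by rw [e, pow_two, h.sq]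
  rcases h.le_two h2 with h1 | h1 | h1
  · exfalso
    rw [(h.col.diag x y).1 h1, h.sq] at e
    exact h.ne w e.symm
  · exact h1
  · exact absurd e ((h.two x y h1).2 w)

/-! ### The pairs of product `g` -/

theorem R_left (x y : Ω) : R T (T x * T y) x := ⟨y, rfl⟩

theorem R_right (x y : Ω) : R T (T x * T y) y := by
  refine ⟨T y • x, ?_⟩
  rw [h.smul, h.inv, mul_assoc, h.mul_cancel]

theorem R_symm {x y s : Ω} (e : R T (T x * T y) s) : R T (T x * T s) y := by
  obtain ⟨s', hs⟩ := e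
  refine ⟨s', ?_⟩
  have h1 : T s = T x * T y * T s' := by
    rw [← hs, mul_assoc, h.sq, mul_one]
  rw [h1, ← mul_assoc, ← mul_assoc, h.sq, one_mul]

theorem R_two {g : G} {s : Ω} (e : R T g s) : R T (g ^ 2) s := by
  obtain ⟨s', rfl⟩ := e
  exact ⟨T s' • s, (h.sq_eq s s').symm⟩

theorem R_three {g : G} {s : Ω} (e : R T g s) : R T (g ^ 3) s := by
  obtain ⟨s', rfl⟩ := e
  exact ⟨(T s' * T s) • s', (h.cube_eq s s').symm⟩

theorem R_col {w s : Ω} (e : R T (T w) s) : c s w = 1 := by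
  obtain ⟨s', hs⟩ := e
  refine h.col_one (w := s') ?_
  rw [← hs, h.mul_cancel]

theorem R_col' {w s : Ω} (e : R T (T w) s) : c w s = 1 := by
  rw [h.col.symm]
  exact h.R_col e

/-- Colour `4B`: the square. -/
theorem six_w {x y : Ω} (e : c x y = 6) : ∃ w, (T x * T y) ^ 2 = T w := by
  obtain ⟨w, hw⟩ := h.one _ _ (h.six x y e)
  exact ⟨w, by rw [h.sq_eq, hw]⟩

/-- Colour `6A`: the cube. -/
theorem eight_w {x y : Ω} (e : c x y = 8) : ∃ w, (T x * T y) ^ 3 = T w := by
  obtain ⟨w, hw⟩ := h.one _ _ (h.eight x y e)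
  exact ⟨w, by rw [h.cube_eq, hw]⟩

theorem six_four {x y : Ω} (e : c x y = 6) : (T x * T y) ^ 4 = 1 := by
  obtain ⟨w, hw⟩ := h.six_w e
  rw [show (4 : ℕ) = 2 * 2 from rfl, pow_mul, hw, pow_two, h.sq]

theorem six_ne {x y : Ω} (e : c x y = 6) : (T x * T y) ^ 2 ≠ 1 := by
  obtain ⟨w, hw⟩ := h.six_w e
  rw [hw]
  exact h.ne w

theorem five_four {x y : Ω} (e : c x y = 5) : (T x * T y) ^ 4 = 1 := by
  rw [show (4 : ℕ) = 2 * 2 from rfl, pow_mul, h.sq_eq]
  exact (h.two _ _ (h.five x y e)).1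

theorem five_ne {x y : Ω} (e : c x y = 5) : (T x * T y) ^ 2 ≠ 1 := by
  intro h1
  rw [h.sq_eq] at h1
  have h2 := h.eq_of_one h1
  have h3 := h.five x y e
  rw [← h2, h.col.self] at h3
  exact absurd h3 (by decide)

theorem eight_six {x y : Ω} (e : c x y = 8) : (T x * T y) ^ 6 = 1 := by
  obtain ⟨w, hw⟩ := h.eight_w e
  rw [show (6 : ℕ) = 3 * 2 from rfl, pow_mul, hw, pow_two, h.sq]

theorem eight_three {x y : Ω} (e : c x y = 8) : (T x * T y) ^ 3 ≠ 1 := by
  obtain ⟨w, hw⟩ := h.eight_w e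
  rw [hw]
  exact h.ne w

theorem eight_two {x y : Ω} (e : c x y = 8) : (T x * T y) ^ 2 ≠ 1 := by
  intro h1
  rcases h.le_two h1 with h2 | h2 | h2 <;> rw [e] at h2 <;> exact absurd h2 (by decide)

theorem two_sq {x y : Ω} (e : c x y = 2) : (T x * T y) ^ 2 = 1 := (h.two x y e).1

theorem one_sq {x y : Ω} (e : c x y = 1) : (T x * T y) ^ 2 = 1 := by
  obtain ⟨w, hw⟩ := h.one x y e
  rw [hw, pow_two, h.sq]

theorem zero_one {x y : Ω} (e : c x y = 0) : T x * T y = 1 := by
  rw [(h.col.diag x y).1 e, h.sq]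

/-- The orders of the products. -/
theorem pow_or (x y : Ω) : (T x * T y) ^ 4 = 1 ∨ (T x * T y) ^ 6 = 1 ∨ (T x * T y) ^ 5 = 1 := by
  have h4 : (T x * T y) ^ 2 = 1 → (T x * T y) ^ 4 = 1 := fun e => by
    rw [show (4 : ℕ) = 2 * 2 from rfl, pow_mul, e, one_pow]
  have h6 : (T x * T y) ^ 3 = 1 → (T x * T y) ^ 6 = 1 := fun e => by
    rw [show (6 : ℕ) = 3 * 2 from rfl, pow_mul, e, one_pow]
  rcases nine (c x y) with h1 | h1 | h1 | h1 | h1 | h1 | h1 | h1 | h1
  · exact Or.inl (by rw [h.zero_one h1, one_pow])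
  · exact Or.inl (h4 (h.one_sq h1))
  · exact Or.inl (h4 (h.two_sq h1))
  · exact Or.inr (Or.inl (h6 (h.three x y h1)))
  · exact Or.inr (Or.inl (h6 (h.four x y h1)))
  · exact Or.inl (h.five_four h1)
  · exact Or.inl (h.six_four h1)
  · exact Or.inr (Or.inr (h.seven x y h1))
  · exact Or.inr (Or.inl (h.eight_six h1))

/-- The element `c = T x T s` and `g = T x T y = T s T s'`. -/
theorem comm_cg {x y s s' : Ω} (e : T s * T s' = T x * T y) :
    Commute (T x * T s) (T x * T y) ∧ T x * T s' = (T x * T s) * (T x * T y) := by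
  have h2 : T x * T s' = (T x * T s) * (T x * T y) := by
    rw [← e, mul_assoc, h.mul_cancel]
  refine ⟨?_, h2⟩
  show (T x * T s) * (T x * T y) = (T x * T y) * (T x * T s)
  rw [← h2]
  -- `T y T s' = T x T s`, `T x T y T y T s' = T x T s'`
  have h3 : T y * T s' = T x * T s := by
    have h1 : T s = T x * T y * T s' := by
      rw [← e, mul_assoc, h.sq, mul_one]
    rw [h1, ← mul_assoc, ← mul_assoc, h.sq, one_mul]
  rw [← h3, mul_assoc, h.mul_cancel]

/-- **Colour `4B`**: same square. -/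
theorem six_sq {x y s : Ω} (hy : c x y = 6) (hs : c x s = 6) (e : R T (T x * T y) s) :
    (T x * T s) ^ 2 = (T x * T y) ^ 2 := by
  obtain ⟨w, hw⟩ := h.six_w hy
  obtain ⟨w', hw'⟩ := h.six_w hs
  have a1 : R T (T w) x := by rw [← hw]; exact h.R_two (h.R_left x y)
  have a2 : R T (T w) s := by rw [← hw]; exact h.R_two e
  have a3 : R T (T w') x := by rw [← hw']; exact h.R_two (h.R_left x s)
  have a4 : R T (T w') s := by rw [← hw']; exact h.R_two (h.R_right x s)
  have h5 := h.uniq x s w w' (Or.inl hs) (h.R_col a1) (h.R_col' a2) (h.R_col a3) (h.R_col' a4)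
  rw [hw, hw', h5]

/-- **Colour `6A`**: same cube. -/
theorem eight_cube {x y s : Ω} (hy : c x y = 8) (hs : c x s = 8) (e : R T (T x * T y) s) :
    (T x * T s) ^ 3 = (T x * T y) ^ 3 := by
  obtain ⟨w, hw⟩ := h.eight_w hy
  obtain ⟨w', hw'⟩ := h.eight_w hs
  have a1 : R T (T w) x := by rw [← hw]; exact h.R_three (h.R_left x y)
  have a2 : R T (T w) s := by rw [← hw]; exact h.R_three e
  have a3 : R T (T w') x := by rw [← hw']; exact h.R_three (h.R_left x s)
  have a4 : R T (T w') s := by rw [← hw']; exact h.R_three (h.R_right x s)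
  have h5 := h.uniq x s w w' (Or.inr hs) (h.R_col a1) (h.R_col' a2) (h.R_col a3) (h.R_col' a4)
  rw [hw, hw', h5]

/-- **Colour `4B`**: the mate has a small colour. -/
theorem six_mate {x y s s' : Ω} (hy : c x y = 6) (hs : c x s = 6) (e : T s * T s' = T x * T y) :
    c x s' = 0 ∨ c x s' = 1 ∨ c x s' = 2 := by
  obtain ⟨h1, h2⟩ := h.comm_cg e
  refine h.le_two ?_
  rw [h2, h1.mul_pow, h.six_sq hy hs ⟨s', e⟩, ← pow_add]
  exact h.six_four hy

/-- **Colour `6A`**: the mate has a small colour. -/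
theorem eight_mate {x y s s' : Ω} (hy : c x y = 8) (hs : c x s = 8) (e : T s * T s' = T x * T y) :
    c x s' = 0 ∨ c x s' = 3 ∨ c x s' = 4 := by
  obtain ⟨h1, h2⟩ := h.comm_cg e
  have h3 : (T x * T s') ^ 3 = 1 := by
    rw [h2, h1.mul_pow, h.eight_cube hy hs ⟨s', e⟩, ← pow_add]
    exact h.eight_six hy
  have hodd : ∀ n, (T x * T s') ^ n = 1 → Nat.gcd 3 n = 1 → c x s' = 0 := by
    intro n hn hg
    have := h.eq_of_one (pow_one' h3 hn hg)
    rw [this]
    exact h.col.self s'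
  rcases nine (c x s') with h4 | h4 | h4 | h4 | h4 | h4 | h4 | h4 | h4
  · exact Or.inl h4
  · exact Or.inl (hodd 2 (h.one_sq h4) rfl)
  · exact Or.inl (hodd 2 (h.two_sq h4) rfl)
  · exact Or.inr (Or.inl h4)
  · exact Or.inr (Or.inr h4)
  · exact Or.inl (hodd 4 (h.five_four h4) rfl)
  · exact Or.inl (hodd 4 (h.six_four h4) rfl)
  · exact Or.inl (hodd 5 (h.seven _ _ h4) rfl)
  · exact absurd h3 (h.eight_three h4)

/-- **Colours `6A` and `4A`, `4B`** do not meet. -/
theorem eight_four {x y s : Ω} (hy : c x y = 8) (hs : c x s = 5 ∨ c x s = 6) (e : R T (T x * T y) s) : False := by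
  obtain ⟨s', e⟩ := e
  obtain ⟨h1, h2⟩ := h.comm_cg e
  have c4 : (T x * T s) ^ 4 = 1 := by
    rcases hs with h3 | h3
    · exact h.five_four h3
    · exact h.six_four h3
  have c2 : (T x * T s) ^ 2 ≠ 1 := by
    rcases hs with h3 | h3
    · exact h.five_ne h3
    · exact h.six_ne h3
  have g6 := h.eight_six hy
  have g2 := h.eight_two hy
  have key := h.pow_or x s'
  rw [h2] at key
  rcases key with k | k | k
  · rw [h1.mul_pow, c4, one_mul] at k
    exact g2 (pow_gcd k g6)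
  · rw [h1.mul_pow, g6, mul_one] at k
    exact c2 (pow_gcd k c4)
  · have h3 : ((T x * T s) * (T x * T y)) ^ 12 = 1 := by
      rw [h1.mul_pow, show (12 : ℕ) = 4 * 3 from rfl, pow_mul, c4, one_pow, one_mul, show (4 * 3 : ℕ) = 6 * 2 from rfl,
        pow_mul, g6, one_pow]
    have h4 := pow_one' k h3 rfl
    have h5 : T x * T s = (T x * T y)⁻¹ := eq_inv_of_mul_eq_one_left h4
    have h6 : (T x * T y) ^ 4 = 1 := by
      rw [h5, inv_pow, inv_eq_one] at c4
      exact c4
    exact g2 (pow_gcd h6 g6)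

/-- Colour `4A`: contained in the set of the square. -/
theorem five_sub {x y s : Ω} (e : R T (T x * T y) s) : R T (T x * T (T y • x)) s := by
  rw [← h.sq_eq]
  exact h.R_two e

/-- Colour `2A`. -/
theorem one_sub {x y s w : Ω} (hw : T x * T y = T w) (e : R T (T x * T y) s) : c w s = 1 := by
  rw [hw] at e
  exact h.R_col' e

end AX

end Cfsg.Agent.H816.M23.Abs
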