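import Cfsg.Agent.H816.M23.ColX
import Cfsg.Agent.H816.M23.Sq
import Cfsg.Agent.H816.M23.Orb
import Cfsg.Agent.BpSpor.MBigEleven

/-!
# The axes of the Monster satisfy the abstract conditions (helper816)
-/

set_option autoImplicit false
set_option maxRecDepth 100000

namespace Cfsg.Agent.H816.M23.Inst

open Cfsg Cfsg.Agent.MonsterX Cfsg.Agent.MonsterX.Space Cfsg.Agent.MonsterX.Conc Cfsg.Agent.MonsterX.Model
open Cfsg.Agent.MonsterX.InstData Cfsg.Agent.MonsterX.OrdChk
open Cfsg.Agent.MonsterX.MainBasic Cfsg.Agent.MonsterX.MainTrans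
open Cfsg.Agent.H816.MTab Cfsg.Agent.H816.MCol Cfsg.Agent.H816.MEnt Cfsg.Agent.H816.MSch
open Cfsg.Agent.H816.IMEig
open Cfsg.Agent.H816.M23.Tx Cfsg.Agent.H816.M23.Cks Cfsg.Agent.H816.M23.ColX Cfsg.Agent.H816.M23.Abs

instance : Finite ↥M.G := finite_G

theorem card_G : Nat.card ↥M.G = 808017424794512875886459904961710757005754368000000000 := BpSpor.MBigModel.card_M

theorem zG_eq : zG = BpSpor.MBigModel.zz := Subtype.ext KDone.lnk.z_eq

theorem card_cz : Nat.card (Subgroup.centralizer ({zG} : Set ↥M.G)) = 2 ^ 25 * 4157776806543360000 := by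
  rw [zG_eq]
  exact BpSpor.MBigModel.card_cent_z

theorem ta_b0 : LThreeB.Row.TA (tX b0) := by
  have e : tX b0 = MainPack.tG MonsterN.LitFin.all.hG MonsterN.LitFin.all.hR := Subtype.ext tX_b0
  show IsConj _ (tX b0)
  rw [e]

theorem ta_iff (u : ↥M.G) : LThreeB.Row.TA u ↔ ∃ w, u = tX w := by
  have e : tX b0 = MainPack.tG MonsterN.LitFin.all.hG MonsterN.LitFin.all.hR := Subtype.ext tX_b0
  show IsConj _ u ↔ _
  rw [← e, isConj_iff]
  constructor
  · rintro ⟨g, hg⟩
    exact ⟨g • b0, by rw [tX_smul, hg]⟩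
  · rintro ⟨w, rfl⟩
    obtain ⟨g, rfl⟩ := c_trans b0 w
    exact ⟨g, (tX_smul g b0).symm⟩

theorem card_ct (w : XT) : Nat.card (Subgroup.centralizer ({tX w} : Set ↥M.G)) =
    2 * 4154781481226426191177580544000000 := BpSpor.MBigModel.card_cent_t ((ta_iff _).2 ⟨w, rfl⟩)

theorem zG_ne_tX (w : XT) : zG ≠ tX w := by
  intro e
  have h1 := card_cz
  rw [e, card_ct w] at h1
  norm_num at h1

/-! ### The order of the stabilizer of a pair -/

theorem card_st (x y : XT) : Nat.card (MulAction.stabilizer ↥M.G ((x, y) : XT × XT)) *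
    (97239461142009186000 * k (c x y)) = 808017424794512875886459904961710757005754368000000000 := by
  have e : MulAction.orbit ↥M.G ((x, y) : XT × XT) = {p | c p.1 p.2 = c x y} := by
    ext p
    constructor
    · rintro ⟨g, rfl⟩
      exact c_inv g x y
    · intro hp
      obtain ⟨g, h1, h2⟩ := c_tr x y p.1 p.2 (by rw [hp])
      exact ⟨g, Prod.ext h1 h2⟩
  have h1 := Nat.card_congr (MulAction.orbitProdStabilizerEquivGroup ↥M.G ((x, y) : XT × XT))
  rw [Nat.card_prod, e, card_G] at h1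
  have h2 := isCol.card_pairs x (c x y)
  rw [card_XT, isCol.kk_eq x b0, kk_eq] at h2
  rw [← h2, ← h1, mul_comm]
  rfl

theorem exists_order {x y : XT} {p : ℕ} (hp : p.Prime) (hd : p ∣ Nat.card (MulAction.stabilizer ↥M.G ((x, y) : XT × XT))) :
    ∃ u : ↥M.G, orderOf u = p ∧ u * tX x = tX x * u ∧ u * tX y = tX y * u := by
  have := Fact.mk hp
  obtain ⟨u, hu⟩ := exists_prime_orderOf_dvd_card' p hd
  have h1 : u.1 • ((x, y) : XT × XT) = (x, y) := u.2
  exact ⟨u.1, by rw [Subgroup.orderOf_coe, hu], (fix_iff _ _).1 (congrArg Prod.fst h1), (fix_iff _ _).1 (congrArg Prod.snd h1)⟩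

theorem exists_of {x y : XT} {i : Fin 9} (hi : c x y = i) {p : ℕ} (hp : p.Prime)
    (hd : ∀ n, n * (97239461142009186000 * k i) = 808017424794512875886459904961710757005754368000000000 → p ∣ n) :
    ∃ u : ↥M.G, orderOf u = p ∧ Commute (tX x * tX y) u := by
  have h1 := card_st x y
  rw [hi] at h1
  obtain ⟨u, h2, h3, h4⟩ := exists_order hp (hd _ h1)
  refine ⟨u, h2, ?_⟩
  show tX x * tX y * u = u * (tX x * tX y)
  rw [mul_assoc, ← h4, ← mul_assoc, ← h3, mul_assoc]

/-! ### Colour `2A` -/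

theorem v1 : Val (0, 1, false) := by decide

theorem c1 : c b0 (yR v1) = 1 := c_yR' v1 (by decide)

theorem ck1 : pairC 1 (gw 0 1) = true := by decide +kernel

theorem one_sq {x y : XT} (h : c x y = 1) : (tX x * tX y) ^ 2 = 1 := by
  refine all_of (P := fun x y => (tX x * tX y) ^ 2 = 1) (pow_inv 2) c1 ?_ h
  have h1 := pairC_sound Instance.inv hR.t₀_sq (fun g hg h0 => comm_t₀ hG hR hL hO MEnt.hT hg h0) t₀_G (lt_gw v1)
    (gw_mem v1) ck1
  apply Subtype.ext
  rw [Subgroup.coe_pow, Subgroup.coe_mul, tX_b0, tX_yR v1]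
  exact h1

theorem ne_one {x y : XT} (h : c x y ≠ 0) : tX x * tX y ≠ 1 := by
  intro e
  apply h
  rw [c_diag]
  apply tX_inj
  have := tX_sq y
  exact mul_right_cancel (e.trans this.symm)

theorem one {x y : XT} (h : c x y = 1) : ∃ w, tX x * tX y = tX w := by
  have h2 := one_sq h
  have h1 : tX x * tX y ≠ 1 := ne_one (by rw [h]; decide)
  have : Fact (Nat.Prime 2) := ⟨Nat.prime_two⟩
  have ho : orderOf (tX x * tX y) = 2 := orderOf_eq_prime h2 h1
  rcases BpSpor.MBigModel.cls ho with ⟨g, hg⟩ | h3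
  · exfalso
    obtain ⟨u, hu, hc⟩ := exists_of h (p := 19) (by norm_num) (by
      intro n hn
      have h4 : n * (97239461142009186000 * 27143910000) = 808017424794512875886459904961710757005754368000000000 := hn
      omega)
    have h5 : Nat.card (Subgroup.centralizer ({tX x * tX y} : Set ↥M.G)) = 2 ^ 25 * 4157776806543360000 := by
      rw [BpSpor.card_cent_of_conj hg]
      exact BpSpor.MBigModel.card_cent_z
    have h6 : (⟨u, Subgroup.mem_centralizer_singleton_iff.2 hc.eq.symm⟩ :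
        Subgroup.centralizer ({tX x * tX y} : Set ↥M.G)) ^ Nat.card (Subgroup.centralizer ({tX x * tX y} : Set ↥M.G)) = 1 :=
      pow_card_eq_one'
    have h7 : u ^ Nat.card (Subgroup.centralizer ({tX x * tX y} : Set ↥M.G)) = 1 := congrArg Subtype.val h6
    rw [← orderOf_dvd_iff_pow_eq_one, hu, h5] at h7
    norm_num at h7
  · exact (ta_iff _).1 h3

theorem two {x y : XT} (h : c x y = 2) : (tX x * tX y) ^ 2 = 1 ∧ ∀ w, tX x * tX y ≠ tX w := by
  obtain ⟨g, rfl, rfl⟩ := c_tr b0 b1 x y (c_b1.trans h.symm)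
  have e : tX (g • b0) * tX (g • b1) = g * zG * g⁻¹ := by
    rw [← b0_b1, tX_smul, tX_smul]
    group
  rw [e]
  constructor
  · rw [conj_pow, _root_.pow_two, zG_sq]
    group
  · intro w hw
    apply zG_ne_tX (g⁻¹ • w)
    rw [tX_smul, ← hw]
    group

theorem q_one {x y : XT} (h : c x y = 6 ∨ c x y = 8) : Nat.card {v : XT // c x v = 1 ∧ c v y = 1} = 1 := by
  rw [Sq.q_eq]
  rcases h with h | h <;> rw [h] <;> decide

/-- **The abstract conditions.** -/
theorem ax : AX ↥M.G XT c tX where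
  col := isCol
  smul := tX_smul
  inj _ _ := tX_inj
  sq := tX_sq
  ne := tX_ne
  one _ _ := one
  two _ _ := two
  three _ _ := three
  four _ _ := four
  five _ _ := five
  six _ _ := six
  seven _ _ := seven
  eight _ _ := eight
  uniq x y v w h h1 h2 h3 h4 := by
    have h5 := q_one h
    rw [Nat.card_eq_one_iff_unique] at h5
    obtain ⟨h6, -⟩ := h5
    exact congrArg Subtype.val (Subsingleton.elim (⟨v, h1, h2⟩ : {v : XT // c x v = 1 ∧ c v y = 1}) ⟨w, h3, h4⟩)

end Cfsg.Agent.H816.M23.Inst
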